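import Mathlib.Algebra.Homology.DerivedCategory.Ext.ExactSequences

/-!
# Ext vanishing through two-term resolutions by exceptional sequences
-/

set_option autoImplicit false

universe w v u t

open CategoryTheory CategoryTheory.Limits CategoryTheory.Abelian

namespace Groth.Agent.H56.ExcExt

variable {C : Type u} [Category.{v} C] [Abelian C] [HasExt.{w} C]

attribute [local instance] HasFiniteBiproducts.of_hasFiniteProducts

theorem eq_zero_from_coproduct {J : Type} [Fintype J] (X : J → C) {A Y : C} (e : A ≅ ∐ X) {n : ℕ}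
    (h : ∀ j, Subsingleton (Ext (X j) Y n)) (x : Ext A Y n) : x = 0 := by
  let e' : (biproduct.bicone X).pt ≅ A := (biproduct.isoCoproduct X) ≪≫ e.symm
  have h1 : (Ext.mk₀ e'.hom).comp x (zero_add n) = 0 :=
    (Ext.biproductAddEquiv (biproduct.isBilimit X) Y n).injective
      (funext fun j => @Subsingleton.elim _ (h j) _ _)
  calc x = (Ext.mk₀ (𝟙 A)).comp x (zero_add n) := (Ext.mk₀_id_comp x).symm
    _ = (Ext.mk₀ e'.inv).comp ((Ext.mk₀ e'.hom).comp x (zero_add n)) (zero_add n) := by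
        rw [← Ext.comp_assoc_of_second_deg_zero, Ext.mk₀_comp_mk₀, Iso.inv_hom_id]
    _ = 0 := by rw [h1, Ext.comp_zero]

theorem eq_zero_to_coproduct {J : Type} [Fintype J] (Y : J → C) {X B : C} (e : B ≅ ∐ Y) {n : ℕ}
    (h : ∀ j, Subsingleton (Ext X (Y j) n)) (x : Ext X B n) : x = 0 := by
  let e' : B ≅ (biproduct.bicone Y).pt := e ≪≫ (biproduct.isoCoproduct Y).symm
  have h1 : x.comp (Ext.mk₀ e'.hom) (add_zero n) = 0 :=
    (Ext.addEquivBiproduct X (biproduct.isBilimit Y) n).injective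
      (funext fun j => @Subsingleton.elim _ (h j) _ _)
  calc x = x.comp (Ext.mk₀ (𝟙 B)) (add_zero n) := (Ext.comp_mk₀_id x).symm
    _ = (x.comp (Ext.mk₀ e'.hom) (add_zero n)).comp (Ext.mk₀ e'.inv) (add_zero n) := by
        rw [Ext.comp_assoc_of_second_deg_zero, Ext.mk₀_comp_mk₀, Iso.hom_inv_id]
    _ = 0 := by rw [h1, Ext.zero_comp]

/-- The two vanishing statements. -/
theorem main (n d : ℕ) (E : Fin n → C)
    (hexc : ∀ i j : Fin n, j < i → ∀ p : ℕ, Subsingleton (Ext (E i) (E j) p))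
    (hstr : ∀ (i j : Fin n) (p : ℕ), 1 ≤ p → Subsingleton (Ext (E i) (E j) p))
    (S : ShortComplex C) (hS : S.ShortExact)
    (m₁ : ℕ) (c₁ : Fin m₁ → Fin n) (e₁ : S.X₁ ≅ ∐ fun t => E (c₁ t))
    (m₂ : ℕ) (c₂ : Fin m₂ → Fin n) (hc₂ : ∀ t, d ≤ (c₂ t : ℕ)) (e₂ : S.X₂ ≅ ∐ fun t => E (c₂ t)) :
    (∀ (i : Fin n) (p : ℕ), 1 ≤ p → Subsingleton (Ext (E i) S.X₃ p)) ∧
      (∀ i : Fin n, (i : ℕ) < d → ∀ p : ℕ, p ≠ 1 → Subsingleton (Ext S.X₃ (E i) p)) := by
  refine ⟨fun i p hp => subsingleton_of_forall_eq 0 fun x => ?_, fun i hi p hp =>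
    subsingleton_of_forall_eq 0 fun x => ?_⟩
  · obtain ⟨y, rfl⟩ := Ext.covariant_sequence_exact₃ (E i) hS x rfl
      (eq_zero_to_coproduct _ e₁ (fun t => hstr i (c₁ t) (p + 1) (by omega)) _)
    rw [eq_zero_to_coproduct _ e₂ (fun t => hstr i (c₂ t) p hp) y, Ext.zero_comp]
  · have h2 : ∀ (q : ℕ) (y : Ext S.X₂ (E i) q), y = 0 := fun q =>
      eq_zero_from_coproduct _ e₂ fun t => hexc (c₂ t) i (by
        rw [Fin.lt_def]; exact lt_of_lt_of_le hi (hc₂ t)) q
    match p, hp, x with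
    | 0, _, x =>
      haveI := hS.epi_g
      exact Ext.precomp_mk₀_injective_of_epi (E i) S.g ((h2 0 _).trans (h2 0 _).symm)
    | 1, hp, _ => exact absurd rfl hp
    | q + 2, _, x =>
      obtain ⟨y, rfl⟩ := Ext.contravariant_sequence_exact₃ hS (E i) x (h2 _ _)
        (show 1 + (q + 1) = q + 2 by omega)
      rw [eq_zero_from_coproduct _ e₁ (fun t => hstr (c₁ t) i (q + 1) (by omega)) y, Ext.comp_zero]

end Groth.Agent.H56.ExcExt
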